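import Mathlib

universe u v

namespace Groth.Agent.SmoothModel

open Algebra

/-- A finitely generated field over a noetherian base which is formally smooth has a smooth model. -/
theorem exists_smooth_model (k : Type v) [CommRing k] [IsNoetherianRing k] (K : Type u) [Field K] [Algebra k K]
    [Algebra.FormallySmooth k K] (s : Finset K) (hs : Subfield.closure (s : Set K) = ⊤) :
    ∃ A : Subalgebra k K, Algebra.FiniteType k A ∧ Algebra.Smooth k A ∧ IsFractionRing A K := by
  classical
  let C := Algebra.adjoin k (s : Set K)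
  haveI : Algebra.FiniteType k C := (Subalgebra.fg_iff_finiteType C).1 ⟨s, rfl⟩
  haveI : Algebra.FinitePresentation k C := Algebra.FinitePresentation.of_finiteType.1 inferInstance
  have hdiv : ∀ (D : Subalgebra k K), C ≤ D → IsFractionRing D K := by
    intro D hCD
    have hmem : ∀ y ∈ Subring.closure (s : Set K), y ∈ D := fun y hy =>
      (Subring.closure_le (t := D.toSubring)).2 (fun z hz => hCD (Algebra.subset_adjoin hz)) hy
    refine
      { map_units := fun y => isUnit_iff_ne_zero.2 fun hy => nonZeroDivisors.ne_zero y.2 (Subtype.ext hy)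
        surj := fun x => ?_
        exists_of_eq := fun h => ⟨1, by rw [Subtype.ext h]⟩ }
    have hx : x ∈ Subfield.closure (s : Set K) := hs ▸ Subfield.mem_top x
    obtain ⟨a, ha, b, hb, rfl⟩ := Subfield.mem_closure_iff.1 hx
    by_cases hb0 : b = 0
    · exact ⟨(0, 1), by simp [hb0]⟩
    · exact ⟨(⟨a, hmem a ha⟩, ⟨⟨b, hmem b hb⟩, mem_nonZeroDivisors_of_ne_zero fun h =>
        hb0 (congrArg Subtype.val h)⟩), div_mul_cancel₀ a hb0⟩
  haveI := hdiv C le_rfl
  let η : PrimeSpectrum C := ⟨⊥, Ideal.isPrime_bot⟩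
  haveI : IsLocalization.AtPrime K (⊥ : Ideal C) := by
    change IsLocalization (⊥ : Ideal C).primeCompl K
    rw [Ideal.primeCompl_bot]
    infer_instance
  have hη : η ∈ Algebra.smoothLocus k C :=
    Algebra.FormallySmooth.of_equiv ((IsLocalization.algEquiv (⊥ : Ideal C).primeCompl K
      (Localization.AtPrime (⊥ : Ideal C))).restrictScalars k)
  obtain ⟨_, ⟨_, ⟨f, rfl⟩, rfl⟩, hf, hle⟩ :=
    PrimeSpectrum.isBasis_basic_opens.exists_subset_of_mem_open hη Algebra.isOpen_smoothLocus
  have hsm : Algebra.Smooth k (Localization.Away f) := Algebra.basicOpen_subset_smoothLocus_iff_smooth.1 hle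
  have hf0 : f ≠ 0 := fun h => hf (by simp [η, h])
  have hu : ∀ y : Submonoid.powers f, IsUnit (C.val y) := by
    rintro ⟨_, n, rfl⟩
    simp only [map_pow]
    exact (isUnit_iff_ne_zero.2 fun h => hf0 (Subtype.ext h)).pow n
  let φ : Localization.Away f →ₐ[k] K :=
    IsLocalization.liftAlgHom (M := Submonoid.powers f) (f := C.val) hu
  have hφ : Function.Injective φ := by
    rw [injective_iff_map_eq_zero]
    intro z hz
    obtain ⟨a, ⟨y, hy⟩, rfl⟩ := IsLocalization.exists_mk'_eq (Submonoid.powers f) z
    have h := congrArg φ (IsLocalization.mk'_spec (Localization.Away f) a ⟨y, hy⟩)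
    rw [map_mul, hz, zero_mul] at h
    have h' : (0 : K) = (a : K) := h.trans (IsLocalization.lift_eq _ a)
    rw [show a = 0 from Subtype.ext h'.symm, IsLocalization.mk'_zero]
  let e := AlgEquiv.ofInjective φ hφ
  haveI : Algebra.Smooth k φ.range := Algebra.Smooth.of_equiv e
  refine ⟨φ.range, inferInstance, inferInstance, hdiv _ fun x hx => ?_⟩
  exact ⟨algebraMap C _ ⟨x, hx⟩, IsLocalization.lift_eq _ _⟩

end Groth.Agent.SmoothModel
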